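import Mathlib
import Groth.Prelude.Def_W4c5stacksedinertiaGpd

/-!
# The inertia operators on the space of finite groups
-/

set_option autoImplicit false
set_option backward.isDefEq.respectTransparency false

open W4c5stacksedinertia

noncomputable section

namespace Groth.Agent.InertiaLib

variable {G H : Type} [Group G] [Finite G] [Group H] [Finite H]

def ofEquiv (G : Type) [Group G] [Finite G] : (FinGrp.of G).carrier ≃* G :=
  letI : Group (Fin (Nat.card G)) := ((Nat.equivFinOfCardPos (α := G) Nat.card_pos.ne').symm).group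
  ((Nat.equivFinOfCardPos (α := G) Nat.card_pos.ne').symm).mulEquiv

def repEquiv (G : Type) [Group G] [Finite G] : (Idx.of G).rep ≃* G :=
  (Classical.choice (Quotient.mk_out (s := FinGrp.setoid) (FinGrp.of G))).trans (ofEquiv G)

theorem Idx_of_congr (e : G ≃* H) : Idx.of G = Idx.of H :=
  Quotient.sound ⟨(ofEquiv G).trans (e.trans (ofEquiv H).symm)⟩

theorem of_rep (i : Idx) : Idx.of i.rep = i := by
  refine (Quotient.sound ?_).trans (Quotient.out_eq i)
  exact ⟨ofEquiv i.rep⟩

theorem cl_congr (e : G ≃* H) : cl G = cl H := by rw [cl, cl, Idx_of_congr e]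

theorem card_of (G : Type) [Group G] [Finite G] : (Idx.of G).card = Nat.card G :=
  Nat.card_congr (repEquiv G).toEquiv

theorem centerCard_of (G : Type) [Group G] [Finite G] : (Idx.of G).centerCard = Nat.card (Subgroup.center G) :=
  Nat.card_congr (Subgroup.centerCongr (repEquiv G)).toEquiv

/-- The weighted centralizer class. -/
def Ψ (G : Type) [Group G] [Finite G] (A : Set G) : K :=
  ((Nat.card (Subgroup.centralizer A) : ℚ) / Nat.card G) • cl (Subgroup.centralizer A)

def centralizerEquiv (e : G ≃* H) (A : Set G) :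
    Subgroup.centralizer A ≃* Subgroup.centralizer (e '' A) :=
  (Subgroup.equivMapOfInjective _ e.toMonoidHom e.injective).trans (MulEquiv.subgroupCongr (by
    ext x
    simp only [Subgroup.mem_map, Subgroup.mem_centralizer_iff, Set.forall_mem_image]
    constructor
    · rintro ⟨y, hy, rfl⟩ a ha
      show e a * e y = e y * e a
      rw [← map_mul, ← map_mul, hy a ha]
    · intro h
      exact ⟨e.symm x, fun a ha => e.injective (by simpa using h ha), e.apply_symm_apply x⟩))

theorem Ψ_map (e : G ≃* H) (A : Set G) : Ψ H (e '' A) = Ψ G A := by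
  rw [Ψ, Ψ, ← cl_congr (centralizerEquiv e A), ← Nat.card_congr (centralizerEquiv e A).toEquiv,
    Nat.card_congr e.toEquiv]

/-- Centralizers inside a centralizer. -/
def centralizerInEquiv (S : Set G) (h : Subgroup.centralizer S) :
    Subgroup.centralizer ({h} : Set (Subgroup.centralizer S)) ≃* Subgroup.centralizer (insert (h : G) S) where
  toFun x := ⟨x.1.1, by
    rw [Subgroup.mem_centralizer_iff]
    rintro a (rfl | ha)
    · exact congrArg Subtype.val (Subgroup.mem_centralizer_iff.1 x.2 h rfl)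
    · exact Subgroup.mem_centralizer_iff.1 x.1.2 a ha⟩
  invFun x := ⟨⟨x.1, Subgroup.mem_centralizer_iff.2 fun a ha =>
      Subgroup.mem_centralizer_iff.1 x.2 a (Set.mem_insert_of_mem _ ha)⟩, by
    rw [Subgroup.mem_centralizer_iff]
    rintro a rfl
    exact Subtype.ext (Subgroup.mem_centralizer_iff.1 x.2 _ (Set.mem_insert _ _))⟩
  left_inv _ := rfl
  right_inv _ := rfl
  map_mul' _ _ := rfl

instance finiteTuple (G : Type) [Group G] [Finite G] (r : ℕ) : Finite (CommTuple G r) :=
  inferInstanceAs (Finite {s : Fin r → G // _})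

instance finiteOrbit (G : Type) [Group G] [Finite G] (r : ℕ) : Finite (CommTuple.Orbit G r) :=
  inferInstanceAs (Finite (Quotient (CommTuple.setoid G r)))

theorem fiber_mul_card (r : ℕ) (t : CommTuple G r) :
    Nat.card {s : CommTuple G r // ∃ g : G, ∀ i, g * s.1 i * g⁻¹ = t.1 i} *
      Nat.card (Subgroup.centralizer (Set.range t.1)) = Nat.card G := by
  classical
  letI : MulAction G (CommTuple G r) :=
    { smul := fun g s => ⟨fun i => g * s.1 i * g⁻¹, fun i j h => s.2.1 (by simpa using h),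
        fun i j => by
          show (g * s.1 i * g⁻¹) * (g * s.1 j * g⁻¹) = (g * s.1 j * g⁻¹) * (g * s.1 i * g⁻¹)
          have := s.2.2 i j
          calc (g * s.1 i * g⁻¹) * (g * s.1 j * g⁻¹) = g * (s.1 i * s.1 j) * g⁻¹ := by group
            _ = g * (s.1 j * s.1 i) * g⁻¹ := by rw [this.eq]
            _ = _ := by group⟩
      one_smul := fun s => Subtype.ext (funext fun i => show 1 * s.1 i * 1⁻¹ = s.1 i by simp)
      mul_smul := fun a b s => Subtype.ext (funext fun i =>
        show a * b * s.1 i * (a * b)⁻¹ = a * (b * s.1 i * b⁻¹) * a⁻¹ by group) }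
  have h1 : Nat.card {s : CommTuple G r // ∃ g : G, ∀ i, g * s.1 i * g⁻¹ = t.1 i} =
      Nat.card (MulAction.orbit G t) := by
    refine Nat.card_congr (Equiv.subtypeEquivRight fun s => ?_)
    rw [MulAction.mem_orbit_iff]
    constructor
    · rintro ⟨g, hg⟩
      refine ⟨g⁻¹, Subtype.ext (funext fun i => ?_)⟩
      show g⁻¹ * t.1 i * g⁻¹⁻¹ = s.1 i
      rw [← hg i]; group
    · rintro ⟨g, rfl⟩
      exact ⟨g⁻¹, fun i => show g⁻¹ * (g * t.1 i * g⁻¹) * g⁻¹⁻¹ = t.1 i by group⟩
  have h2 : Subgroup.centralizer (Set.range t.1) = MulAction.stabilizer G t := by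
    ext g
    rw [Subgroup.mem_centralizer_iff, MulAction.mem_stabilizer_iff, Set.forall_mem_range]
    constructor
    · intro h
      exact Subtype.ext (funext fun i => show g * t.1 i * g⁻¹ = t.1 i by rw [← h i]; group)
    · intro h i
      have : g * t.1 i * g⁻¹ = t.1 i := congrFun (congrArg Subtype.val h) i
      calc t.1 i * g = (g * t.1 i * g⁻¹) * g := by rw [this]
        _ = g * t.1 i := by group
  haveI := Fintype.ofFinite G
  haveI := Fintype.ofFinite (MulAction.orbit G t)
  haveI := Fintype.ofFinite (MulAction.stabilizer G t)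
  rw [h1, h2, Nat.card_eq_fintype_card, Nat.card_eq_fintype_card, Nat.card_eq_fintype_card]
  convert MulAction.card_orbit_mul_card_stabilizer_eq_card_group G t

theorem Ψ_conj (r : ℕ) {s t : CommTuple G r} (h : ∃ g : G, ∀ i, g * s.1 i * g⁻¹ = t.1 i) :
    Ψ G (Set.range s.1) = Ψ G (Set.range t.1) := by
  obtain ⟨g, hg⟩ := h
  rw [← Ψ_map (MulAut.conj g) (Set.range s.1)]
  congr 1
  rw [← Set.range_comp]
  exact congrArg Set.range (funext hg)

theorem inertiaROf_eq (r : ℕ) (G : Type) [Group G] [Finite G] [Fintype (CommTuple G r)] :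
    inertiaROf r G = ∑ s : CommTuple G r, Ψ G (Set.range s.1) := by
  classical
  haveI := Fintype.ofFinite (CommTuple.Orbit G r)
  rw [inertiaROf, finsum_eq_sum_of_fintype,
    ← Finset.sum_fiberwise_of_maps_to (t := Finset.univ)
      (g := fun s : CommTuple G r => (Quotient.mk (CommTuple.setoid G r) s : CommTuple.Orbit G r))
      (fun _ _ => Finset.mem_univ _)]
  refine Finset.sum_congr (Finset.ext (by simp)) fun O _ => ?_
  set t := Quotient.out (s := CommTuple.setoid G r) O with ht
  have hO : Quotient.mk (CommTuple.setoid G r) t = O := Quotient.out_eq O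
  have hfib : ∀ s : CommTuple G r, (Quotient.mk (CommTuple.setoid G r) s : CommTuple.Orbit G r) = O ↔
      ∃ g : G, ∀ i, g * s.1 i * g⁻¹ = t.1 i := by
    intro s
    constructor
    · intro hs
      exact Quotient.exact (hs.trans hO.symm)
    · intro hs
      exact (Quotient.sound (s := CommTuple.setoid G r) hs).trans hO
  rw [Finset.sum_congr rfl (fun s hs => Ψ_conj r ((hfib s).1 (Finset.mem_filter.1 hs).2)), Finset.sum_const,
    ← Fintype.card_subtype]
  have hc := fiber_mul_card r t
  rw [← Nat.card_eq_fintype_card, Nat.card_congr (Equiv.subtypeEquivRight hfib), Ψ, ← Nat.cast_smul_eq_nsmul ℚ,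
    smul_smul, mul_div_assoc', ← Nat.cast_mul, hc, div_self (by exact_mod_cast (Nat.card_pos (α := G)).ne'), one_smul]

theorem inertiaROf_congr (r : ℕ) (e : G ≃* H) : inertiaROf r G = inertiaROf r H := by
  classical
  haveI := Fintype.ofFinite (CommTuple G r)
  haveI := Fintype.ofFinite (CommTuple H r)
  rw [inertiaROf_eq, inertiaROf_eq]
  let f : CommTuple G r ≃ CommTuple H r :=
    { toFun := fun s => ⟨e ∘ s.1, e.injective.comp s.2.1, fun i j => (s.2.2 i j).map e⟩
      invFun := fun s => ⟨e.symm ∘ s.1, e.symm.injective.comp s.2.1, fun i j => (s.2.2 i j).map e.symm⟩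
      left_inv := fun s => Subtype.ext (funext fun i => e.symm_apply_apply _)
      right_inv := fun s => Subtype.ext (funext fun i => e.apply_symm_apply _) }
  refine Fintype.sum_equiv f _ _ fun s => ?_
  rw [show Set.range (f s).1 = e '' Set.range s.1 from Set.range_comp e s.1, Ψ_map]

theorem inertiaR_single (r : ℕ) (i : Idx) (a : ℚ) :
    inertiaR r (Finsupp.single i a) = a • inertiaROf r i.rep := by
  rw [inertiaR, Finsupp.linearCombination_single]

theorem inertiaR_cl (r : ℕ) (G : Type) [Group G] [Finite G] : inertiaR r (cl G) = inertiaROf r G := by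
  rw [cl, inertiaR_single, one_smul]
  exact inertiaROf_congr r (repEquiv G)

theorem inertia_cl (G : Type) [Group G] [Finite G] [Fintype G] : inertia (cl G) = ∑ h : G, Ψ G {h} := by
  classical
  haveI := Fintype.ofFinite (CommTuple G 1)
  rw [inertia, inertiaR_cl, inertiaROf_eq]
  let f : CommTuple G 1 ≃ G :=
    { toFun := fun s => s.1 0
      invFun := fun h => ⟨fun _ => h, Function.injective_of_subsingleton _, fun _ _ => Commute.refl h⟩
      left_inv := fun s => Subtype.ext (funext fun i => congrArg s.1 (Subsingleton.elim 0 i))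
      right_inv := fun _ => rfl }
  refine Fintype.sum_equiv f _ _ fun s => ?_
  congr 1
  ext x
  simp [f, Fin.exists_fin_one, eq_comm]

theorem inertia_comp (r : ℕ) (v : K) :
    inertia (inertiaR r v) = inertiaR (r + 1) v + (r : ℚ) • inertiaR r v := by
  suffices h : inertia ∘ₗ inertiaR r = inertiaR (r + 1) + (r : ℚ) • inertiaR r from LinearMap.congr_fun h v
  refine Finsupp.lhom_ext fun i a => ?_
  simp only [LinearMap.comp_apply, LinearMap.add_apply, LinearMap.smul_apply, inertiaR_single, map_smul]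
  rw [smul_comm (r : ℚ) a, ← smul_add]
  congr 1
  classical
  haveI := Fintype.ofFinite i.rep
  haveI := Fintype.ofFinite (CommTuple i.rep r)
  haveI := Fintype.ofFinite (CommTuple i.rep (r + 1))
  set G := i.rep
  rw [inertiaROf_eq, inertiaROf_eq, map_sum]
  have key : ∀ s : CommTuple G r, inertia (Ψ G (Set.range s.1)) =
      (∑ h : {h : Subgroup.centralizer (Set.range s.1) // (h : G) ∉ Set.range s.1},
        Ψ G (insert (h.1 : G) (Set.range s.1))) + (r : ℚ) • Ψ G (Set.range s.1) := by
    intro s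
    set C := Subgroup.centralizer (Set.range s.1)
    have hC : (Nat.card C : ℚ) ≠ 0 := by exact_mod_cast (Nat.card_pos (α := C)).ne'
    have step : ∀ h : C, ((Nat.card C : ℚ) / Nat.card G) • Ψ C {h} = Ψ G (insert (h : G) (Set.range s.1)) := by
      intro h
      rw [Ψ, Ψ, cl_congr (centralizerInEquiv (Set.range s.1) h), Nat.card_congr (centralizerInEquiv (Set.range s.1) h).toEquiv,
        smul_smul]
      congr 1
      field_simp
    rw [show Ψ G (Set.range s.1) = ((Nat.card C : ℚ) / Nat.card G) • cl C from rfl, map_smul, inertia_cl,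
      Finset.smul_sum, Finset.sum_congr rfl (fun h _ => step h),
      ← Fintype.sum_subtype_add_sum_subtype (fun h : C => (h : G) ∈ Set.range s.1), add_comm]
    congr 1
    let f : Fin r ≃ {h : C // (h : G) ∈ Set.range s.1} :=
      Equiv.ofBijective (fun j => ⟨⟨s.1 j, Subgroup.mem_centralizer_iff.2 (by
          rintro _ ⟨l, rfl⟩; exact s.2.2 l j)⟩, j, rfl⟩)
        ⟨fun a b h => s.2.1 (congrArg (fun x : {h : C // (h : G) ∈ Set.range s.1} => ((x.1 : C) : G)) h), by
          rintro ⟨⟨g, hg⟩, j, hj⟩; exact ⟨j, Subtype.ext (Subtype.ext hj)⟩⟩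
    rw [← Fintype.sum_equiv f (fun _ => ((Nat.card C : ℚ) / Nat.card G) • cl C) _ (fun j => ?_), Finset.sum_const,
      Finset.card_univ, Fintype.card_fin, Nat.cast_smul_eq_nsmul]
    show _ = Ψ G (insert (s.1 j) (Set.range s.1))
    rw [Set.insert_eq_of_mem (show s.1 j ∈ Set.range s.1 from ⟨j, rfl⟩)]
    rfl
  rw [Finset.sum_congr rfl (fun s _ => key s), Finset.sum_add_distrib, ← Finset.smul_sum]
  congr 1
  rw [← Fintype.sum_sigma']
  let F : (Σ s : CommTuple G r, {h : Subgroup.centralizer (Set.range s.1) // (h : G) ∉ Set.range s.1}) ≃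
      CommTuple G (r + 1) :=
    { toFun := fun x => ⟨Fin.cons (x.2.1 : G) x.1.1, Fin.cons_injective_iff.2 ⟨x.2.2, x.1.2.1⟩, by
        have hc := Subgroup.mem_centralizer_iff.1 x.2.1.2
        refine Fin.forall_fin_succ.2 ⟨Fin.forall_fin_succ.2 ⟨Commute.refl _, fun j => ?_⟩, fun i =>
          Fin.forall_fin_succ.2 ⟨?_, fun j => ?_⟩⟩
        · simp only [Fin.cons_zero, Fin.cons_succ]; exact (hc _ ⟨j, rfl⟩).symm
        · simp only [Fin.cons_zero, Fin.cons_succ]; exact hc _ ⟨i, rfl⟩
        · simp only [Fin.cons_succ]; exact x.1.2.2 i j⟩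
      invFun := fun t => ⟨⟨Fin.tail t.1, fun a b h => Fin.succ_injective r (t.2.1 h), fun i j => t.2.2 _ _⟩,
        ⟨⟨t.1 0, Subgroup.mem_centralizer_iff.2 (by rintro _ ⟨l, rfl⟩; exact t.2.2 _ _)⟩, by
          rintro ⟨l, hl⟩; exact Fin.succ_ne_zero l (t.2.1 hl)⟩⟩
      left_inv := by
        rintro ⟨⟨s, hs⟩, ⟨⟨h, hh⟩, hh'⟩⟩
        rfl
      right_inv := fun t => Subtype.ext (Fin.cons_self_tail t.1) }
  refine Fintype.sum_equiv F _ _ fun x => ?_
  show Ψ G (insert (x.2.1 : G) (Set.range x.1.1)) = Ψ G (Set.range (Fin.cons (x.2.1 : G) x.1.1))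
  rw [Fin.range_cons]

theorem centralizer_equiv_top (A : Set G) (h : Subgroup.centralizer A = ⊤) : Ψ G A = cl G := by
  have e : Subgroup.centralizer A ≃* G := (MulEquiv.subgroupCongr h).trans Subgroup.topEquiv
  rw [Ψ, cl_congr e, Nat.card_congr e.toEquiv,
    div_self (by exact_mod_cast (Nat.card_pos (α := G)).ne'), one_smul]

theorem inertiaR_zero (v : K) : inertiaR 0 v = v := by
  suffices h : inertiaR 0 = LinearMap.id from LinearMap.congr_fun h v
  refine Finsupp.lhom_ext fun i a => ?_
  rw [inertiaR_single, LinearMap.id_apply]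
  haveI : Unique (CommTuple i.rep 0) :=
    { default := ⟨Fin.elim0, fun a => a.elim0, fun a => a.elim0⟩
      uniq := fun s => Subtype.ext (funext fun a => a.elim0) }
  rw [inertiaROf_eq, Fintype.sum_unique, centralizer_equiv_top, cl, of_rep, Finsupp.smul_single, smul_eq_mul, mul_one]
  rw [Set.range_eq_empty]
  exact Subgroup.centralizer_eq_top_iff_subset.2 (Set.empty_subset _)

/-- The classes strictly below `i`: smaller order, bigger centre. -/
def below (i : Idx) : Set Idx := {j | j.card < i.card ∧ i.centerCard < j.centerCard}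

theorem inertia_single_sub (i : Idx) :
    inertia (Finsupp.single i 1) - (i.centerCard : ℚ) • Finsupp.single i 1 ∈ Finsupp.supported ℚ ℚ (below i) := by
  classical
  have hcl : (Finsupp.single i 1 : K) = cl i.rep := by rw [cl, of_rep]
  haveI := Fintype.ofFinite i.rep
  rw [hcl, inertia_cl, ← Fintype.sum_subtype_add_sum_subtype (fun h : i.rep => h ∈ Subgroup.center i.rep)]
  rw [Finset.sum_congr rfl (fun h _ => centralizer_equiv_top _ (Subgroup.centralizer_eq_top_iff_subset.2
      (Set.singleton_subset_iff.2 h.2))), Finset.sum_const, Finset.card_univ, ← Nat.card_eq_fintype_card,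
    ← Nat.cast_smul_eq_nsmul ℚ]
  rw [show Nat.card {h : i.rep // h ∈ Subgroup.center i.rep} = i.centerCard from rfl, add_sub_cancel_left]
  refine Submodule.sum_mem _ fun h _ => ?_
  rw [Ψ, cl]
  refine Submodule.smul_mem _ _ (Finsupp.single_mem_supported ℚ 1 ?_)
  set C := Subgroup.centralizer ({h.1} : Set i.rep)
  have hC : C < ⊤ := lt_top_iff_ne_top.2 fun e =>
    h.2 (Set.singleton_subset_iff.1 (Subgroup.centralizer_eq_top_iff_subset.1 e))
  refine ⟨?_, ?_⟩
  · rw [card_of, Idx.card]
    exact lt_of_lt_of_eq (Set.Finite.card_lt_card (s := (C : Set i.rep)) (t := Set.univ) Set.finite_univ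
      (Set.ssubset_univ_iff.2 (fun e => hC.ne (SetLike.coe_injective (e.trans Subgroup.coe_top.symm))))) Nat.card_univ
  · rw [centerCard_of]
    show Nat.card (Subgroup.center i.rep) < Nat.card (Subgroup.center C)
    rw [Nat.card_congr ((Subgroup.center C).equivMapOfInjective C.subtype C.subtype_injective).toEquiv]
    refine Set.Finite.card_lt_card (Set.toFinite _) ⟨fun x hx => ?_, fun hsub => h.2 (hsub ?_)⟩
    · refine ⟨⟨x, Subgroup.mem_centralizer_iff.2 fun a _ => Subgroup.mem_center_iff.1 hx a⟩, ?_, rfl⟩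
      exact Subgroup.mem_center_iff.2 fun y => Subtype.ext (Subgroup.mem_center_iff.1 hx y.1)
    · refine ⟨⟨h.1, Subgroup.mem_centralizer_iff.2 fun a ha => by rw [Set.mem_singleton_iff.1 ha]⟩, ?_, rfl⟩
      exact Subgroup.mem_center_iff.2 fun y => Subtype.ext (Subgroup.mem_centralizer_iff.1 y.2 h.1 rfl).symm

theorem inertia_mem_Kle {n : ℕ} {v : K} (hv : v ∈ Kle n) : inertia v ∈ Kle n := by
  rw [Kle, Finsupp.supported_eq_span_single] at hv
  induction hv using Submodule.span_induction with
  | mem x hx =>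
    obtain ⟨i, hi, rfl⟩ := hx
    have := inertia_single_sub i
    rw [← sub_add_cancel (inertia (Finsupp.single i (1 : ℚ))) ((i.centerCard : ℚ) • Finsupp.single i 1)]
    exact add_mem (Finsupp.supported_mono (fun j hj => (hj.1.le.trans hi : j.card ≤ n)) this)
      (Submodule.smul_mem _ _ (Finsupp.single_mem_supported ℚ 1 hi))
  | zero => simp
  | add x y _ _ hx hy => rw [map_add]; exact add_mem hx hy
  | smul a x _ hx => rw [map_smul]; exact Submodule.smul_mem _ _ hx

theorem inertia_sub_mem_Kge {k : ℕ} {v : K} (hv : v ∈ Kge k) : inertia v - (k : ℚ) • v ∈ Kge (k + 1) := by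
  rw [Kge, Finsupp.supported_eq_span_single] at hv
  induction hv using Submodule.span_induction with
  | mem x hx =>
    obtain ⟨i, hi, rfl⟩ := hx
    have hi' : k ≤ i.centerCard := hi
    have h1 := Finsupp.supported_mono (s := below i) (t := {j : Idx | k + 1 ≤ j.centerCard})
      (fun j hj => Nat.lt_of_le_of_lt hi' hj.2) (inertia_single_sub i)
    rcases hi'.eq_or_lt with h | h
    · subst h; exact h1
    · rw [show inertia (Finsupp.single i (1 : ℚ)) - (k : ℚ) • Finsupp.single i 1 =
        (inertia (Finsupp.single i (1 : ℚ)) - (i.centerCard : ℚ) • Finsupp.single i 1) +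
          ((i.centerCard : ℚ) - k) • Finsupp.single i 1 by rw [sub_smul]; abel]
      exact add_mem h1 (Submodule.smul_mem _ _ (Finsupp.single_mem_supported ℚ 1 h))
  | zero => simp
  | add x y _ _ hx hy => rw [map_add, smul_add, add_sub_add_comm]; exact add_mem hx hy
  | smul a x _ hx => rw [map_smul, smul_comm, ← smul_sub]; exact Submodule.smul_mem _ _ hx

theorem cast_desc_succ (k r : ℕ) :
    (k.descFactorial (r + 1) : ℚ) = ((k : ℚ) - r) * k.descFactorial r := by
  rw [Nat.descFactorial_succ, Nat.cast_mul]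
  rcases le_or_gt r k with h | h
  · rw [Nat.cast_sub h]
  · rw [Nat.descFactorial_eq_zero_iff_lt.2 h]; simp

theorem inertiaR_sub_mem_Kge (r k : ℕ) {v : K} (hv : v ∈ Kge k) :
    inertiaR r v - (k.descFactorial r : ℚ) • v ∈ Kge (k + 1) := by
  induction r with
  | zero => simp [inertiaR_zero]
  | succ r ih =>
    set w := inertiaR r v - (k.descFactorial r : ℚ) • v with hw
    have hIw : inertia w ∈ Kge (k + 1) := by
      have h1 := Finsupp.supported_mono (s := {j : Idx | k + 1 + 1 ≤ j.centerCard}) (t := {j : Idx | k + 1 ≤ j.centerCard})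
        (fun j (hj : k + 1 + 1 ≤ j.centerCard) => (by show k + 1 ≤ j.centerCard; omega)) (inertia_sub_mem_Kge ih)
      rw [← sub_add_cancel (inertia w) (((k + 1 : ℕ) : ℚ) • w)]
      exact add_mem h1 (Submodule.smul_mem _ _ ih)
    have e : inertiaR (r + 1) v - (k.descFactorial (r + 1) : ℚ) • v =
        inertia w + (k.descFactorial r : ℚ) • (inertia v - (k : ℚ) • v) - (r : ℚ) • w := by
      rw [hw, map_sub, map_smul, inertia_comp, cast_desc_succ]
      module
    rw [e]
    exact sub_mem (add_mem hIw (Submodule.smul_mem _ _ (inertia_sub_mem_Kge hv))) (Submodule.smul_mem _ _ ih)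

theorem inertiaR_apply_eigen {μ : ℕ} {v : K} (hv : v ∈ Module.End.eigenspace inertia (μ : ℚ)) (r : ℕ) :
    inertiaR r v = (μ.descFactorial r : ℚ) • v := by
  induction r with
  | zero => simp [inertiaR_zero]
  | succ r ih =>
    have h := inertia_comp r v
    rw [ih, map_smul, Module.End.mem_eigenspace_iff.1 hv] at h
    rw [← sub_eq_iff_eq_add] at h
    rw [← h, cast_desc_succ]
    module

theorem single_mem_eigen (i : Idx) :
    (Finsupp.single i 1 : K) ∈ ⨆ n : {n : ℕ // i.centerCard ≤ n}, Module.End.eigenspace inertia ((n : ℕ) : ℚ) := by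
  induction hN : i.card using Nat.strong_induction_on generalizing i with
  | _ N ih =>
    set z := i.centerCard with hz
    set T : Submodule ℚ K := ⨆ n : {n : ℕ // z < n}, Module.End.eigenspace inertia ((n : ℕ) : ℚ)
    have hr : inertia (Finsupp.single i 1) - (z : ℚ) • Finsupp.single i 1 ∈ T := by
      refine SetLike.le_def.1 ?_ (inertia_single_sub i)
      rw [Finsupp.supported_eq_span_single, Submodule.span_le]
      rintro _ ⟨j, hj, rfl⟩
      refine SetLike.le_def.1 (iSup_le fun n => ?_) (ih j.card (hN ▸ hj.1) j rfl)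
      exact le_iSup (fun n : {n : ℕ // z < n} => Module.End.eigenspace inertia ((n : ℕ) : ℚ)) ⟨n.1, lt_of_lt_of_le hj.2 n.2⟩
    obtain ⟨w, hw, hwr⟩ : ∃ w ∈ T, inertia w - (z : ℚ) • w = inertia (Finsupp.single i 1) - (z : ℚ) • Finsupp.single i 1 := by
      generalize inertia (Finsupp.single i 1) - (z : ℚ) • Finsupp.single i (1 : ℚ) = r at hr ⊢
      induction hr using Submodule.iSup_induction' with
      | mem n x hx =>
        have hne : ((n : ℕ) : ℚ) - z ≠ 0 := sub_ne_zero.2 (by exact_mod_cast (Nat.ne_of_gt n.2))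
        refine ⟨(((n : ℕ) : ℚ) - z)⁻¹ • x,
          le_iSup (fun n : {n : ℕ // z < n} => Module.End.eigenspace inertia ((n : ℕ) : ℚ)) n (Submodule.smul_mem _ _ hx), ?_⟩
        rw [map_smul, Module.End.mem_eigenspace_iff.1 hx, smul_comm (z : ℚ), ← smul_sub, ← sub_smul, smul_smul,
          inv_mul_cancel₀ hne, one_smul]
      | zero => exact ⟨0, zero_mem _, by simp⟩
      | add x y _ _ hx hy =>
        obtain ⟨a, ha, ha'⟩ := hx
        obtain ⟨b, hb, hb'⟩ := hy
        exact ⟨a + b, add_mem ha hb, by rw [map_add, smul_add, add_sub_add_comm, ha', hb']⟩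
    rw [← sub_add_cancel (Finsupp.single i (1 : ℚ)) w]
    refine add_mem (le_iSup (fun n : {n : ℕ // z ≤ n} => Module.End.eigenspace inertia ((n : ℕ) : ℚ)) ⟨z, le_rfl⟩ ?_) ?_
    · rw [Module.End.mem_eigenspace_iff, map_sub]
      rw [sub_eq_sub_iff_add_eq_add] at hwr
      show inertia (Finsupp.single i 1) - inertia w = (z : ℚ) • (Finsupp.single i 1 - w)
      rw [smul_sub, sub_eq_sub_iff_add_eq_add]
      exact hwr.symm.trans (add_comm _ _)
    · have hle : T ≤ ⨆ n : {n : ℕ // z ≤ n}, Module.End.eigenspace inertia ((n : ℕ) : ℚ) :=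
        iSup_le fun n => le_iSup (fun n : {n : ℕ // z ≤ n} => Module.End.eigenspace inertia ((n : ℕ) : ℚ)) ⟨n.1, n.2.le⟩
      exact hle hw

theorem centerCard_pos (i : Idx) : 0 < i.centerCard := Nat.card_pos

theorem iSup_pos_eigen :
    (⨆ n : {n : ℕ // 0 < n}, Module.End.eigenspace inertia ((n : ℕ) : ℚ)) = ⊤ := by
  rw [eq_top_iff, ← Finsupp.supported_univ, Finsupp.supported_eq_span_single, Submodule.span_le]
  rintro _ ⟨i, -, rfl⟩
  refine SetLike.le_def.1 (iSup_le fun n => ?_) (single_mem_eigen i)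
  exact le_iSup (fun n : {n : ℕ // 0 < n} => Module.End.eigenspace inertia ((n : ℕ) : ℚ)) ⟨n.1, (centerCard_pos i).trans_le n.2⟩

theorem exists_decomp (v : K) : ∃ (S : Finset ℕ) (f : ℕ → K),
    (∀ n : ℕ, f n ∈ Module.End.eigenspace inertia (n : ℚ)) ∧ v = ∑ n ∈ S, f n ∧ ∀ n, n ∉ S → f n = 0 := by
  classical
  have h2 : (⨆ n : {n : ℕ // 0 < n}, Module.End.eigenspace inertia ((n : ℕ) : ℚ)) ≤
      ⨆ n : ℕ, Module.End.eigenspace inertia (n : ℚ) :=
    iSup_le fun n => le_iSup (fun n : ℕ => Module.End.eigenspace inertia (n : ℚ)) n.1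
  rw [iSup_pos_eigen] at h2
  have hv := h2 (Submodule.mem_top : v ∈ ⊤)
  obtain ⟨f, hf, hsum⟩ := (Submodule.mem_iSup_iff_exists_finsupp _ _).1 hv
  exact ⟨f.support, f, hf, hsum.symm, fun n hn => Finsupp.notMem_support_iff.1 hn⟩

theorem binom_inversion {n M : ℕ} (hn : n < M) (k : ℕ) :
    ∑ r ∈ Finset.range M, ((-1 : ℚ) ^ (r + k)) / (r.factorial : ℚ) * (r.choose k : ℚ) * (n.descFactorial r : ℚ) =
      if n = k then 1 else 0 := by
  classical
  have e : ∀ r, ((-1 : ℚ) ^ (r + k)) / (r.factorial : ℚ) * (r.choose k : ℚ) * (n.descFactorial r : ℚ) =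
      (-1 : ℚ) ^ (r + k) * (r.choose k : ℚ) * (n.choose r : ℚ) := by
    intro r
    rw [Nat.descFactorial_eq_factorial_mul_choose, Nat.cast_mul]
    have : (r.factorial : ℚ) ≠ 0 := by exact_mod_cast r.factorial_ne_zero
    field_simp
  rw [Finset.sum_congr rfl (fun r _ => e r)]
  rw [← Finset.sum_subset (s₁ := Finset.range (n + 1))
    (fun x hx => Finset.mem_range.2 (lt_of_lt_of_le (Finset.mem_range.1 hx) hn))
    (fun r _ hr => by rw [Nat.choose_eq_zero_of_lt (n := n) (k := r) (by simpa using hr)]; simp)]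
  have h := congrArg (fun P : Polynomial ℚ => P.coeff k) (add_pow (Polynomial.X + 1) (Polynomial.C (-1 : ℚ)) n)
  simp only [Polynomial.finsetSum_coeff] at h
  rw [show (Polynomial.X + 1 + Polynomial.C (-1 : ℚ)) = Polynomial.X by simp, Polynomial.coeff_X_pow] at h
  have h2 : ∀ r ∈ Finset.range (n + 1), (-1 : ℚ) ^ (r + k) * (r.choose k : ℚ) * (n.choose r : ℚ) =
      (-1 : ℚ) ^ (n + k) * ((Polynomial.X + 1) ^ r * Polynomial.C (-1 : ℚ) ^ (n - r) * (n.choose r : Polynomial ℚ)).coeff k := by
    intro r hr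
    rw [← map_pow, mul_assoc ((Polynomial.X + 1) ^ r), ← Polynomial.C_eq_natCast, ← map_mul, Polynomial.coeff_mul_C,
      Polynomial.coeff_X_add_one_pow]
    have hs : (-1 : ℚ) ^ (r + k) = (-1 : ℚ) ^ (n + k) * (-1 : ℚ) ^ (n - r) := by
      rw [← pow_add]
      have : n + k + (n - r) = r + k + 2 * (n - r) := by have := Finset.mem_range.1 hr; omega
      rw [this, pow_add _ (r + k) (2 * (n - r)), pow_mul, neg_one_sq, one_pow, mul_one]
    rw [hs]; ring
  rw [Finset.sum_congr rfl h2, ← Finset.mul_sum, ← h]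
  split_ifs with h1 h3 h3
  · subst h1; rw [mul_one, ← two_mul, pow_mul, neg_one_sq, one_pow]
  · exact absurd h1.symm h3
  · exact absurd h3.symm h1
  · rw [mul_zero]

theorem projection (v : K) : ∃ (S : Finset ℕ) (f : ℕ → K),
    (∀ n : ℕ, f n ∈ Module.End.eigenspace inertia (n : ℚ)) ∧ v = ∑ n ∈ S, f n ∧ (∀ n, n ∉ S → f n = 0) ∧
    ∀ k : ℕ, (∑ᶠ r : ℕ, (((-1 : ℚ) ^ (r + k)) / (Nat.factorial r : ℚ) * (Nat.choose r k : ℚ)) • inertiaR r v) = f k := by
  classical
  obtain ⟨S, f, hf, hv, h0⟩ := exists_decomp v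
  refine ⟨S, f, hf, hv, h0, fun k => ?_⟩
  set M := S.sup id + 1
  have hM : ∀ n ∈ S, n < M := fun n hn => Nat.lt_succ_of_le (Finset.le_sup (f := id) hn)
  have hI : ∀ r, inertiaR r v = ∑ n ∈ S, (n.descFactorial r : ℚ) • f n := fun r => by
    rw [hv, map_sum]; exact Finset.sum_congr rfl fun n _ => inertiaR_apply_eigen (hf n) r
  rw [finsum_eq_sum_of_support_subset _ (s := Finset.range M) ?_]
  · simp only [hI, Finset.smul_sum, smul_smul]
    rw [Finset.sum_comm]
    simp only [← Finset.sum_smul]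
    rw [Finset.sum_congr rfl (fun n hn => by rw [binom_inversion (hM n hn) k])]
    simp only [ite_smul, one_smul, zero_smul]
    rw [Finset.sum_ite_eq']
    split_ifs with h
    · rfl
    · rw [h0 k h]
  · intro r hr
    rw [Finset.coe_range, Set.mem_Iio]
    by_contra hlt
    apply hr
    show _ • inertiaR r v = 0
    rw [hI, Finset.sum_eq_zero, smul_zero]
    intro n hn
    rw [Nat.descFactorial_eq_zero_iff_lt.2 (lt_of_lt_of_le (hM n hn) (not_lt.1 hlt)), Nat.cast_zero, zero_smul]

theorem inertiaR_eq_zero_of_le {r : ℕ} {v : K} (h : inertiaR r v = 0) : ∀ r', r ≤ r' → inertiaR r' v = 0 := by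
  intro r' hr
  induction r', hr using Nat.le_induction with
  | base => exact h
  | succ r' _ ih => simpa [ih] using (inertia_comp r' v).symm

end Groth.Agent.InertiaLib
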